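import Groth.Prelude.Def_W4c61motalbdualityCompl
import Mathlib.GroupTheory.FiniteAbelian.Basic
import Mathlib.GroupTheory.Finiteness
import Mathlib.Topology.Algebra.Group.Quotient
import Mathlib.Topology.Algebra.OpenSubgroup
import Mathlib.Topology.Separation.Profinite
import Mathlib.Algebra.Category.Grp.Injective
import Mathlib.Algebra.Module.CharacterModule

/-!
Lemmas on locally compact totally disconnected abelian groups and on completions with respect
to open subgroups of finite index.
-/

namespace Groth.Agent.ProComplHelper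

open Topology Pointwise W4c61motalbduality

/-- A finitely generated abelian group is residually finite. -/
theorem exists_finiteIndex_notMem {G : Type*} [AddCommGroup G] [AddGroup.FG G] (x : G)
    (hx : x ≠ 0) : ∃ H : AddSubgroup G, H.FiniteIndex ∧ x ∉ H := by
  classical
  obtain ⟨n, ι, _, p, hp, e, ⟨φ⟩⟩ := AddCommGroup.equiv_free_prod_directSum_zmod G
  by_cases h2 : (φ x).2 = 0
  · have h1 : (φ x).1 ≠ 0 := fun h1 => hx (φ.injective (by rw [map_zero]; exact Prod.ext h1 h2))
    obtain ⟨i, hi⟩ := Finsupp.ne_iff.1 h1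
    let c : ℤ := (φ x).1 i
    let m : ℕ := c.natAbs + 1
    let ψ : G →+ ZMod m := (Int.castAddHom (ZMod m)).comp ((Finsupp.applyAddHom i).comp
      ((AddMonoidHom.fst _ _).comp φ.toAddMonoidHom))
    refine ⟨ψ.ker, AddSubgroup.finiteIndex_ker ψ, fun hker => hi ?_⟩
    replace hker : ((c : ℤ) : ZMod m) = 0 := hker
    rw [ZMod.intCast_zmod_eq_zero_iff_dvd] at hker
    exact Int.eq_zero_of_dvd_of_natAbs_lt_natAbs hker (by show c.natAbs < ((m : ℤ)).natAbs; rw [Int.natAbs_natCast]; exact Nat.lt_succ_self _)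
  · obtain ⟨i, hi⟩ := DFinsupp.ne_iff.1 h2
    haveI : NeZero (p i ^ e i) := ⟨pow_ne_zero _ (hp i).ne_zero⟩
    let ψ : G →+ ZMod (p i ^ e i) := (DFinsupp.evalAddMonoidHom (β := fun i => ZMod (p i ^ e i)) i).comp
      ((AddMonoidHom.snd _ _).comp φ.toAddMonoidHom)
    exact ⟨ψ.ker, AddSubgroup.finiteIndex_ker ψ, fun hker => hi hker⟩

/-- In a finitely generated quotient, a finite-index subgroup containing `S` avoiding `x`. -/
theorem exists_finiteIndex_ge_notMem {G : Type*} [AddCommGroup G] (S : AddSubgroup G)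
    [AddGroup.FG (G ⧸ S)] (x : G) (hx : x ∉ S) :
    ∃ H : AddSubgroup G, H.FiniteIndex ∧ S ≤ H ∧ x ∉ H := by
  obtain ⟨H, hH, hxH⟩ := exists_finiteIndex_notMem (x : G ⧸ S)
    (fun h => hx ((QuotientAddGroup.eq_zero_iff x).1 h))
  refine ⟨H.comap (QuotientAddGroup.mk' S), ⟨?_⟩, fun y hy => ?_, hxH⟩
  · rw [AddSubgroup.index_comap_of_surjective _ (QuotientAddGroup.mk'_surjective S)]
    exact hH.index_ne_zero
  · show (y : G ⧸ S) ∈ H
    rw [(QuotientAddGroup.eq_zero_iff y).2 hy]
    exact zero_mem H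

/-- The quotient of a compactly generated group by an open subgroup is finitely generated. -/
theorem fg_quotient {B : Type*} [AddCommGroup B] [TopologicalSpace B] [IsTopologicalAddGroup B]
    (hcg : ∃ K : Set B, IsCompact K ∧ AddSubgroup.closure K = ⊤)
    (U : AddSubgroup B) (hU : IsOpen (U : Set B)) : AddGroup.FG (B ⧸ U) := by
  obtain ⟨K, hK, hgen⟩ := hcg
  haveI := QuotientAddGroup.discreteTopology hU
  have hfin : ((QuotientAddGroup.mk' U) '' K).Finite :=
    (hK.image QuotientAddGroup.continuous_mk).finite_of_discrete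
  refine AddGroup.fg_iff.2 ⟨_, ?_, hfin⟩
  rw [← AddMonoidHom.map_closure, hgen,
    AddSubgroup.map_top_of_surjective _ (QuotientAddGroup.mk'_surjective U)]

/-- van Dantzig. -/
theorem exists_compact_open_subgroup {B : Type*} [AddCommGroup B] [TopologicalSpace B]
    [IsTopologicalAddGroup B] [T2Space B] [LocallyCompactSpace B] [TotallyDisconnectedSpace B]
    {N : Set B} (hN : N ∈ 𝓝 (0 : B)) :
    ∃ U : AddSubgroup B, IsOpen (U : Set B) ∧ IsCompact (U : Set B) ∧ (U : Set B) ⊆ N := by
  obtain ⟨K, hK, h0K, hKN⟩ :=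
    exists_compact_subset isOpen_interior (mem_interior_iff_mem_nhds.2 hN)
  obtain ⟨W, hW, h0W, hWK⟩ := loc_compact_Haus_tot_disc_of_zero_dim.exists_subset_of_mem_open
    h0K isOpen_interior
  have hWc : IsCompact W := hK.of_isClosed_subset hW.1 (hWK.trans interior_subset)
  obtain ⟨V, hV, hWV⟩ := compact_open_separated_add_right hWc hW.2 subset_rfl
  let S : AddSubgroup B :=
    { carrier := {h | ∀ w, w + h ∈ W ↔ w ∈ W}
      add_mem' := fun {a b} ha hb w => by rw [← add_assoc, hb, ha]
      zero_mem' := fun w => by rw [add_zero]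
      neg_mem' := fun {a} ha w => by
        conv_rhs => rw [← neg_add_cancel_right w a, ha] }
  have hSW : (S : Set B) ⊆ W := fun h hh => by simpa using (hh 0).2 h0W
  have hSV : V ∩ -V ⊆ (S : Set B) := by
    intro h hh w
    refine ⟨fun hw => ?_, fun hw => hWV (Set.add_mem_add hw hh.1)⟩
    have := hWV (Set.add_mem_add hw hh.2)
    simpa using this
  have hSo : IsOpen (S : Set B) :=
    AddSubgroup.isOpen_of_mem_nhds S
      (Filter.mem_of_superset (Filter.inter_mem hV (neg_mem_nhds_zero B hV)) hSV)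
  exact ⟨S, hSo, hWc.of_isClosed_subset (OpenAddSubgroup.isClosed ⟨S, hSo⟩) hSW,
    hSW.trans ((hWK.trans interior_subset).trans (hKN.trans interior_subset))⟩

/-- Extension of a character along an injection. -/
theorem exists_extension {A B : Type*} [AddCommGroup A] [AddCommGroup B] (f : A →+ B)
    (hf : Function.Injective f) (g : A →+ ℚ ⧸ AddSubgroup.zmultiples (1 : ℚ)) :
    ∃ h : B →+ ℚ ⧸ AddSubgroup.zmultiples (1 : ℚ), h.comp f = g := by
  haveI : DivisibleBy (ℚ ⧸ AddSubgroup.zmultiples (1 : ℚ)) ℤ :=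
    inferInstanceAs (DivisibleBy (AddCircle (1 : ℚ)) ℤ)
  exact (Module.Baer.of_divisible (ℚ ⧸ AddSubgroup.zmultiples (1 : ℚ))).extension_property_addMonoidHom
    f hf g

/-- If a character of `A` kills `f⁻¹ U` with `U` open, it extends to one with open kernel. -/
theorem exists_openKer_extension {A B : Type*} [AddCommGroup A] [AddCommGroup B]
    [TopologicalSpace B] [IsTopologicalAddGroup B] (f : A →+ B)
    (χ : A →+ ℚ ⧸ AddSubgroup.zmultiples (1 : ℚ)) (U : AddSubgroup B) (hU : IsOpen (U : Set B))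
    (h : ∀ a, f a ∈ U → χ a = 0) :
    ∃ ψ : B →+ ℚ ⧸ AddSubgroup.zmultiples (1 : ℚ), IsOpen (ψ.ker : Set B) ∧ ψ.comp f = χ := by
  let g : A →+ B ⧸ U := (QuotientAddGroup.mk' U).comp f
  have hker : g.ker ≤ χ.ker := fun a ha => h a ((QuotientAddGroup.eq_zero_iff _).1 ha)
  obtain ⟨φ, hφ⟩ := exists_extension (QuotientAddGroup.kerLift g)
    (QuotientAddGroup.kerLift_injective g) (QuotientAddGroup.lift g.ker χ hker)
  refine ⟨φ.comp (QuotientAddGroup.mk' U), AddSubgroup.isOpen_mono (fun b hb => ?_) hU, ?_⟩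
  · show φ (b : B ⧸ U) = 0
    rw [(QuotientAddGroup.eq_zero_iff b).2 hb, map_zero]
  · ext a
    exact DFunLike.congr_fun hφ (a : A ⧸ g.ker)

section Compl

variable {A B : Type*} [AddCommGroup A] [TopologicalSpace A] [IsTopologicalAddGroup A]
  [AddCommGroup B] [TopologicalSpace B]

/-- Compactness: a family of residues on `B` which is pointwise in the image of `A`
comes from the completion of `A`. -/
theorem exists_map_eq (f : A →+ B) (hf : Continuous f) (y : FICompl B)
    (h : ∀ V : OpenFI B, ∃ a : A, (f a : B ⧸ V.toAddSubgroup) = y.1 V) :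
    ∃ x : FICompl A, FICompl.map f hf x = y := by
  classical
  haveI hd : ∀ U : OpenFI A, DiscreteTopology (A ⧸ U.toAddSubgroup) :=
    fun U => QuotientAddGroup.discreteTopology U.isOpen'
  haveI hfin : ∀ U : OpenFI A, Finite (A ⧸ U.toAddSubgroup) := fun U => by
    haveI := U.finiteIndex'; infer_instance
  haveI hdB : ∀ V : OpenFI B, Nonempty (OpenFI B) := fun V => ⟨V⟩
  let top : OpenFI B := ⟨⊤, by simp, inferInstance⟩
  have hclosedC : IsClosed (FICompl A : Set ((U : OpenFI A) → A ⧸ U.toAddSubgroup)) := by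
    show IsClosed {x : (U : OpenFI A) → A ⧸ U.toAddSubgroup |
      ∀ (U V : OpenFI A) (h : U.toAddSubgroup ≤ V.toAddSubgroup),
        QuotientAddGroup.map U.toAddSubgroup V.toAddSubgroup (AddMonoidHom.id A) h (x U) = x V}
    simp only [Set.setOf_forall]
    exact isClosed_iInter fun U => isClosed_iInter fun V => isClosed_iInter fun h =>
      isClosed_eq (continuous_of_discreteTopology.comp (continuous_apply U)) (continuous_apply V)
  haveI : CompactSpace (FICompl A) := isCompact_iff_compactSpace.1 hclosedC.isCompact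
  let F : OpenFI B → Set (FICompl A) := fun V =>
    {x | (FICompl.map f hf x).1 V = y.1 V}
  have hF : ∀ V, IsClosed (F V) := fun V => by
    show IsClosed ((fun x : FICompl A => x.1 (V.comap f hf)) ⁻¹'
      {z | QuotientAddGroup.map _ V.toAddSubgroup f (V.comap_le f) z = y.1 V})
    exact (isClosed_discrete _).preimage ((continuous_apply _).comp continuous_subtype_val)
  haveI : Nonempty (OpenFI B) := ⟨top⟩
  have hne : (⋂ V, F V).Nonempty := by
    refine IsCompact.nonempty_iInter_of_directed_nonempty_isCompact_isClosed F ?_ (fun V => ?_)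
      (fun V => (hF V).isCompact) hF
    · intro V W
      haveI := V.finiteIndex'
      haveI := W.finiteIndex'
      let Z : OpenFI B := ⟨V.toAddSubgroup ⊓ W.toAddSubgroup, V.isOpen'.inter W.isOpen', inferInstance⟩
      refine ⟨Z, fun x hx => ?_, fun x hx => ?_⟩
      · show (FICompl.map f hf x).1 V = y.1 V
        rw [← (FICompl.map f hf x).2 Z V inf_le_left, ← y.2 Z V inf_le_left,
          show (FICompl.map f hf x).1 Z = y.1 Z from hx]
      · show (FICompl.map f hf x).1 W = y.1 W
        rw [← (FICompl.map f hf x).2 Z W inf_le_right, ← y.2 Z W inf_le_right,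
          show (FICompl.map f hf x).1 Z = y.1 Z from hx]
    · obtain ⟨a, ha⟩ := h V
      exact ⟨toFICompl A a, ha⟩
  obtain ⟨x, hx⟩ := hne
  exact ⟨x, Subtype.ext (funext fun V => Set.mem_iInter.1 hx V)⟩

end Compl

end Groth.Agent.ProComplHelper
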