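import Mathlib.Topology.Algebra.Category.ProfiniteGrp.Completion

/-!
Coordinate formula and image criterion for maps of profinite completions.
-/

namespace Groth.Agent.ProComplHelper.Profinite

open CategoryTheory ProfiniteGrp ProfiniteGrp.ProfiniteCompletion

universe u

variable {G H : Type u} [Group G] [Group H]

theorem continuous_proj (U : FiniteIndexNormalSubgroup (GrpCat.of G)) :
    Continuous fun x : completion (GrpCat.of G) => x.1 U :=
  (continuous_apply _).comp continuous_subtype_val

theorem map_eta (f : G →* H) (a : G) :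
    (profiniteCompletion.map (GrpCat.ofHom f)).hom (etaFn (GrpCat.of G) a) =
      etaFn (GrpCat.of H) (f a) :=
  ConcreteCategory.congr_hom
    (lift_eta (G := GrpCat.of G) (GrpCat.ofHom f ≫ eta (GrpCat.of H))) a

theorem map_val (f : G →* H) (x : completion (GrpCat.of G))
    (V : FiniteIndexNormalSubgroup (GrpCat.of H)) :
    ((profiniteCompletion.map (GrpCat.ofHom f)).hom x).1 V =
      QuotientGroup.map (FiniteIndexNormalSubgroup.comap f V).toSubgroup V.toSubgroup f
        (fun _ h => h) (x.1 (FiniteIndexNormalSubgroup.comap f V)) := by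
  haveI : DiscreteTopology
      ((ProfiniteGrp.ProfiniteCompletion.diagram (GrpCat.of G)).obj (FiniteIndexNormalSubgroup.comap f V)) :=
    ⟨rfl⟩
  refine congrFun ((denseRange (GrpCat.of G)).equalizer
    ((continuous_proj V).comp (profiniteCompletion.map (GrpCat.ofHom f)).hom.continuous_toFun)
    ((continuous_of_discreteTopology (f := fun z : (diagram (GrpCat.of G)).obj (FiniteIndexNormalSubgroup.comap f V) =>
      show ((diagram (GrpCat.of H)).obj V : Type u) from QuotientGroup.map
      (FiniteIndexNormalSubgroup.comap f V).toSubgroup V.toSubgroup f (fun _ h => h) z)).comp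
        (continuous_proj (FiniteIndexNormalSubgroup.comap f V))) (funext fun a => ?_)) x
  show ((profiniteCompletion.map (GrpCat.ofHom f)).hom (etaFn (GrpCat.of G) a)).1 V = _
  rw [map_eta]
  rfl

/-- A point of the completion of `H` which is pointwise in the image of `f` lies in the range. -/
theorem exists_map_eq (f : G →* H) (y : completion (GrpCat.of H))
    (h : ∀ V : FiniteIndexNormalSubgroup (GrpCat.of H), ∃ a : G, (etaFn (GrpCat.of H) (f a)).1 V = y.1 V) :
    ∃ x, (profiniteCompletion.map (GrpCat.ofHom f)).hom x = y := by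
  let m := (profiniteCompletion.map (GrpCat.ofHom f)).hom
  let F : FiniteIndexNormalSubgroup (GrpCat.of H) → Set (completion (GrpCat.of G)) :=
    fun V => {x | (m x).1 V = y.1 V}
  have hF : ∀ V, IsClosed (F V) := fun V =>
    isClosed_eq ((continuous_proj V).comp m.continuous_toFun) continuous_const
  haveI : Nonempty (FiniteIndexNormalSubgroup (GrpCat.of H)) :=
    ⟨FiniteIndexNormalSubgroup.ofSubgroup (⊤ : Subgroup H)⟩
  have hne : (⋂ V, F V).Nonempty := by
    refine IsCompact.nonempty_iInter_of_directed_nonempty_isCompact_isClosed F ?_ (fun V => ?_)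
      (fun V => (hF V).isCompact) hF
    · intro V W
      refine ⟨V ⊓ W, fun x hx => ?_, fun x hx => ?_⟩
      · show (m x).1 V = y.1 V
        rw [← (m x).2 (inf_le_left : V ⊓ W ≤ V).hom, ← y.2 (inf_le_left : V ⊓ W ≤ V).hom,
          show (m x).1 (V ⊓ W) = _ from hx]
      · show (m x).1 W = y.1 W
        rw [← (m x).2 (inf_le_right : V ⊓ W ≤ W).hom, ← y.2 (inf_le_right : V ⊓ W ≤ W).hom,
          show (m x).1 (V ⊓ W) = _ from hx]
    · obtain ⟨a, ha⟩ := h V
      refine ⟨etaFn (GrpCat.of G) a, ?_⟩
      show (m (etaFn (GrpCat.of G) a)).1 V = _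
      rw [show m (etaFn (GrpCat.of G) a) = _ from map_eta f a, ha]
  obtain ⟨x, hx⟩ := hne
  exact ⟨x, Subtype.ext (funext fun V => Set.mem_iInter.1 hx V)⟩

end Groth.Agent.ProComplHelper.Profinite
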